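import Mathlib
import Groth.Agent.Lib.Helper5.VAmple.B
import Groth.Agent.Lib.Helper5.VAmple.I
import Groth.Agent.Lib.Helper2.ProjUPD
import Groth.Agent.Lib.Lead.QC.PullbackUnit
import Groth.Agent.Lib.Lead.QC.PullInv

/-!
# Compatibility of the morphism to projective space with pullback
-/

set_option autoImplicit false
set_option linter.style.haveILetI false
universe u
open CategoryTheory CategoryTheory.Limits AlgebraicGeometry TopologicalSpace Opposite
  HomogeneousLocalization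

namespace Groth.Agent.H5.VA

open Groth.Agent.LD Groth.Agent.LD.QC Groth.Agent.H5.VAmple Twist Groth.Agent.H2.PUP
  Groth.Agent.H5.Segre

variable {X Y : Scheme.{u}} (g : Y ⟶ X) (L : X.Modules) (hL : PicF.IsInvertible L) {n : ℕ}
  (s : Fin (n + 1) → ProjUP.Γm L) (hs : ProjUP.GeneratedBy L s)

include hL hs in
/-- pullbacks of generating sections generate. -/
theorem generatedBy_pullSec :
    ProjUP.GeneratedBy ((Scheme.Modules.pullback g).obj L) (fun l => ProjUP.pullSec g L (s l)) := by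
  apply generatedBy_of_forall_mem_genLocus
  intro y
  obtain ⟨j, hj⟩ := exists_mem_genLocus L hL s hs (g y)
  refine ⟨j, ?_⟩
  have h1 := genLocus_pbHom g hL (homOfSection L (s j))
  have h2 : pbHom g (homOfSection L (s j)) =
      homOfSection _ (ProjUP.pullSec g L (s j)) := by
    rw [← homOfSection_sectionOfHom (pbHom g (homOfSection L (s j)))]
    congr 1
    rw [pullSec_eq_pbSec]
    rw [pbHom, sectionOfHom_homOfSection, sectionOfHom_homOfSection]
  rw [← h2, h1]
  exact hj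

end Groth.Agent.H5.VA

namespace Groth.Agent.H5.VA

open Groth.Agent.LD Groth.Agent.LD.QC Groth.Agent.H5.VAmple Twist Groth.Agent.H2.PUP
  Groth.Agent.H5.Segre

variable {X Y : Scheme.{u}} (g : Y ⟶ X) (L : X.Modules) (hL : PicF.IsInvertible L) {n : ℕ}
  (s : Fin (n + 1) → ProjUP.Γm L) (hs : ProjUP.GeneratedBy L s)

/-- **naturality of the morphism to `P^n_ℤ`**. -/
theorem toPnZ_pullback (hM : PicF.IsInvertible ((Scheme.Modules.pullback g).obj L))
    (ht : ProjUP.GeneratedBy ((Scheme.Modules.pullback g).obj L)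
      (fun l => ProjUP.pullSec g L (s l))) :
    toPnZ ((Scheme.Modules.pullback g).obj L) hM (fun l => ProjUP.pullSec g L (s l)) ht =
      g ≫ toPnZ L hL s hs := by
  obtain ⟨τ₁, hτ₁⟩ := exists_iso_toPnZ ((Scheme.Modules.pullback g).obj L) hM
    (fun l => ProjUP.pullSec g L (s l)) ht
  obtain ⟨τ₂, hτ₂⟩ := exists_iso_toPnZ L hL s hs
  let r₁ := toPnZ ((Scheme.Modules.pullback g).obj L) hM (fun l => ProjUP.pullSec g L (s l)) ht
  let r₂ := toPnZ L hL s hs
  let O1 := twist (CohB1.polyGrading n (ULift.{u} ℤ)) 1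
  let τ : (Scheme.Modules.pullback r₁).obj O1 ≅ (Scheme.Modules.pullback (g ≫ r₂)).obj O1 :=
    τ₁ ≪≫ ((Scheme.Modules.pullback g).mapIso τ₂).symm ≪≫
      (Scheme.Modules.pullbackComp g r₂).app O1
  refine hom_ext_of_iso (CohB1.polyGrading n (ULift.{u} ℤ)) (ιPn n _) (ιPn_mem n _)
    (isSymmetricAlgebra_ιPn n _) r₁ (g ≫ r₂) (specULiftZIsTerminal.hom_ext _ _) τ
    (fun j : Fin (n + 1) => ei n (ULift.{u} ℤ) j) (span_single n _) ?_
  intro j
  change ((Scheme.Modules.pullbackComp g r₂).hom.app O1).app ⊤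
    (((Scheme.Modules.pullback g).map τ₂.inv).app ⊤ (τ₁.hom.app ⊤ _)) = _
  have h1 : τ₁.hom.app ⊤ (ProjUP.pullSec r₁ O1
      (sec1 (CohB1.polyGrading n (ULift.{u} ℤ)) (xi_mem n (ULift.{u} ℤ) j))) =
      ProjUP.pullSec g L (s j) := hτ₁ j
  have h2 : ((Scheme.Modules.pullback g).map τ₂.inv).app ⊤ (ProjUP.pullSec g L (s j)) =
      pbSec g ((Scheme.Modules.pullback r₂).obj O1) (le_refl _ : (⊤ : Y.Opens) ≤ g ⁻¹ᵁ ⊤)
        (ProjUP.pullSec r₂ O1
          (sec1 (CohB1.polyGrading n (ULift.{u} ℤ)) (xi_mem n (ULift.{u} ℤ) j))) := by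
    rw [pullSec_eq_pbSec, pbSec_naturality]
    congr 1
    rw [← hτ₂ j]
    have h3 := congrArg (fun φ : (Scheme.Modules.pullback r₂).obj O1 ⟶
      (Scheme.Modules.pullback r₂).obj O1 => φ.app ⊤ (ProjUP.pullSec r₂ O1
        (sec1 (CohB1.polyGrading n (ULift.{u} ℤ)) (xi_mem n (ULift.{u} ℤ) j)))) τ₂.hom_inv_id
    exact h3
  refine (congrArg _ ((congrArg _ h1).trans h2)).trans ?_
  rw [pullSec_eq_pbSec r₂, pullSec_eq_pbSec (g ≫ r₂)]
  exact pbSec_comp' g r₂ O1 _ _ _ _

end Groth.Agent.H5.VA
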