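import Mathlib

/-!
# Algebra for the very ampleness criterion
-/

set_option autoImplicit false
universe u

namespace Groth.Agent.H5.VA

section Codim2

variable (K : Type*) [Field K] [IsAlgClosed K]

/-- a field which is a finite extension of an algebraically closed field is one-dimensional. -/
lemma finrank_quotient_maximal (C : Type*) [CommRing C] [Algebra K C]
    [Module.Finite K C] (m : Ideal C) [m.IsMaximal] :
    Module.finrank K (C ⧸ m) = 1 := by
  letI : Field (C ⧸ m) := Ideal.Quotient.field m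
  haveI : Algebra.IsIntegral K (C ⧸ m) := Algebra.IsIntegral.of_finite K (C ⧸ m)
  have hb : Function.Bijective (algebraMap K (C ⧸ m)) :=
    IsAlgClosed.algebraMap_bijective_of_isIntegral
  have e : K ≃ₗ[K] (C ⧸ m) :=
    LinearEquiv.ofBijective (Algebra.linearMap K (C ⧸ m)) hb
  rw [← e.finrank_eq, Module.finrank_self]

/-- a nontrivial finite-dimensional commutative algebra over an algebraically closed field has an
ideal of dimension one. -/
lemma exists_ideal_finrank_eq_one (D : Type*) [CommRing D] [Algebra K D]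
    [Module.Finite K D] [Nontrivial D] :
    ∃ N : Ideal D, Module.finrank K N = 1 := by
  classical
  haveI : IsArtinianRing D := IsArtinianRing.of_finite K D
  let T : Set (Ideal D) := {N | N ≠ ⊥}
  have hT : T.Nonempty := ⟨⊤, top_ne_bot⟩
  obtain ⟨N, hN0, hNmin⟩ := IsArtinian.set_has_minimal T hT
  have hN0' : N ≠ ⊥ := hN0
  obtain ⟨x, hxN, hx0⟩ := Submodule.exists_mem_ne_zero_of_ne_bot hN0'
  have hmin : ∀ y : D, y ∈ N → y ≠ 0 → Ideal.span {y} = N := by
    intro y hyN hy0
    by_contra hne
    have hle : Ideal.span {y} ≤ N := (Ideal.span_singleton_le_iff_mem N).mpr hyN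
    have hlt' : Ideal.span {y} < N := lt_of_le_of_ne hle hne
    have hy' : Ideal.span {y} ∈ T := by
      intro h0
      rw [Ideal.span_singleton_eq_bot] at h0
      exact hy0 h0
    exact hNmin _ hy' hlt'
  -- multiplication by `x`
  let μ : D →ₗ[K] N :=
    { toFun := fun d => ⟨d * x, Ideal.mul_mem_left N d hxN⟩
      map_add' := fun a b => Subtype.ext (add_mul a b x)
      map_smul' := fun c a => Subtype.ext (by simp [Algebra.smul_mul_assoc]) }
  have hμsurj : Function.Surjective μ := by
    rintro ⟨y, hy⟩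
    rw [← hmin x hxN hx0, Ideal.mem_span_singleton'] at hy
    obtain ⟨d, rfl⟩ := hy
    exact ⟨d, rfl⟩
  -- the kernel is a maximal ideal
  let m : Ideal D := (Ideal.span {x}).annihilator
  have hmem : ∀ d : D, d ∈ m ↔ d * x = 0 := by
    intro d
    change d ∈ (Ideal.span {x}).annihilator ↔ _
    rw [Submodule.mem_annihilator_span_singleton]
    rfl
  have hmax : m.IsMaximal := by
    rw [Ideal.isMaximal_iff]
    refine ⟨fun h1 => hx0 (by simpa using (hmem 1).mp h1), ?_⟩
    intro J y hmJ hym hyJ
    have hyx : y * x ≠ 0 := fun h => hym ((hmem y).mpr h)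
    have h1 := hmin (y * x) (Ideal.mul_mem_left N y hxN) hyx
    have hx' : x ∈ Ideal.span {y * x} := by rw [h1]; exact hxN
    rw [Ideal.mem_span_singleton'] at hx'
    obtain ⟨d, hd⟩ := hx'
    have h2 : (1 - d * y) ∈ m := by
      rw [hmem]
      rw [sub_mul, one_mul, mul_assoc, hd, sub_self]
    have h3 : (1 - d * y) ∈ J := hmJ h2
    have h4 : d * y ∈ J := J.mul_mem_left d hyJ
    have : (1 - d * y) + d * y ∈ J := J.add_mem h3 h4
    simpa using this
  haveI := hmax
  have hker : LinearMap.ker μ = m.restrictScalars K := by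
    ext d
    rw [LinearMap.mem_ker, Submodule.restrictScalars_mem, hmem]
    constructor
    · intro h
      exact congrArg Subtype.val h
    · intro h
      exact Subtype.ext h
  refine ⟨N, ?_⟩
  have e : (D ⧸ LinearMap.ker μ) ≃ₗ[K] N := μ.quotKerEquivOfSurjective hμsurj
  rw [← e.finrank_eq]
  have e2 : (D ⧸ LinearMap.ker μ) ≃ₗ[K] (D ⧸ m) := by
    refine Submodule.quotEquivOfEq _ _ hker ≪≫ₗ ?_
    exact LinearEquiv.refl K _
  rw [e2.finrank_eq]
  exact finrank_quotient_maximal K D m

/-- a finite-dimensional commutative algebra of dimension at least two over an algebraically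
closed field has a quotient of dimension exactly two. -/
theorem exists_ideal_finrank_quotient_eq_two (C : Type*) [CommRing C] [Algebra K C]
    [Module.Finite K C] (h : 2 ≤ Module.finrank K C) :
    ∃ I : Ideal C, Module.finrank K (C ⧸ I) = 2 := by
  classical
  haveI : IsNoetherianRing C := IsNoetherianRing.of_finite K C
  let S : Set (Ideal C) := {I | 2 ≤ Module.finrank K (C ⧸ I)}
  have hS : S.Nonempty := by
    refine ⟨⊥, ?_⟩
    change 2 ≤ Module.finrank K (C ⧸ (⊥ : Ideal C))
    rw [(AlgEquiv.quotientBot K C).toLinearEquiv.finrank_eq]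
    exact h
  obtain ⟨I, hIS, hImax⟩ := set_has_maximal_iff_noetherian.mpr (inferInstance) S hS
  refine ⟨I, le_antisymm ?_ hIS⟩
  by_contra hlt
  push Not at hlt
  haveI : Nontrivial (C ⧸ I) := by
    by_contra hn
    rw [not_nontrivial_iff_subsingleton] at hn
    have : Module.finrank K (C ⧸ I) = 0 := Module.finrank_zero_of_subsingleton
    omega
  obtain ⟨N, hN⟩ := exists_ideal_finrank_eq_one K (C ⧸ I)
  let I' : Ideal C := N.comap (Ideal.Quotient.mk I)
  have hII' : I ≤ I' := by
    intro c hc
    change Ideal.Quotient.mk I c ∈ N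
    rw [Ideal.Quotient.eq_zero_iff_mem.mpr hc]
    exact N.zero_mem
  -- the quotient `C / I'` is `D / N`
  have h1 : Module.finrank K ((C ⧸ I) ⧸ N) + Module.finrank K N = Module.finrank K (C ⧸ I) :=
    Submodule.finrank_quotient_add_finrank (N.restrictScalars K)
  let π : C →ₐ[K] ((C ⧸ I) ⧸ N) :=
    (Ideal.Quotient.mkₐ K N).comp (Ideal.Quotient.mkₐ K I)
  have hπsurj : Function.Surjective π :=
    (Ideal.Quotient.mkₐ_surjective K N).comp (Ideal.Quotient.mkₐ_surjective K I)
  have hπker : RingHom.ker (π : C →+* ((C ⧸ I) ⧸ N)) = I' := by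
    ext c
    rw [RingHom.mem_ker]
    change Ideal.Quotient.mk N (Ideal.Quotient.mk I c) = 0 ↔ _
    rw [Ideal.Quotient.eq_zero_iff_mem]
    rfl
  have e : (C ⧸ I') ≃ₗ[K] ((C ⧸ I) ⧸ N) := by
    have e1 := Ideal.quotientKerAlgEquivOfSurjective hπsurj
    have e2 : (C ⧸ I') ≃ₐ[K] (C ⧸ RingHom.ker (π : C →+* ((C ⧸ I) ⧸ N))) :=
      Ideal.quotientEquivAlgOfEq K hπker.symm
    exact (e2.trans e1).toLinearEquiv
  have hI'S : I' ∈ S := by
    change 2 ≤ Module.finrank K (C ⧸ I')
    rw [e.finrank_eq]
    omega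
  have hne : I ≠ I' := by
    intro heq
    have : Module.finrank K (C ⧸ I') = Module.finrank K (C ⧸ I) := by rw [← heq]
    rw [e.finrank_eq] at this
    omega
  exact hImax I' hI'S (lt_of_le_of_ne hII' hne)

end Codim2

end Groth.Agent.H5.VA

namespace Groth.Agent.H5.VA

section Nak

/-- **global Nakayama**: a finite ring map `φ : R → B` such that `B = K·1 + 𝔪B` for every maximal
ideal `𝔪` of `R` is surjective. -/
theorem surjective_of_forall_maximal {K R B : Type*} [CommRing K] [CommRing R] [CommRing B]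
    (κ : K →+* R) (φ : R →+* B) (hfin : φ.Finite)
    (h : ∀ m : Ideal R, m.IsMaximal → ∀ b : B, ∃ c : K, b - φ (κ c) ∈ m.map φ) :
    Function.Surjective φ := by
  classical
  algebraize [φ]
  let N : Submodule R B := LinearMap.range (Algebra.linearMap R B)
  haveI : Module.Finite R B := hfin
  -- `Q = 𝔪 Q` for all maximal `𝔪`
  have hQ : ∀ m : Ideal R, m.IsMaximal →
      (⊤ : Submodule R (B ⧸ N)) ≤ m • (⊤ : Submodule R (B ⧸ N)) := by
    intro m hm q _
    obtain ⟨b, rfl⟩ := Submodule.Quotient.mk_surjective N q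
    obtain ⟨c, hc⟩ := h m hm b
    have h1 : (Submodule.Quotient.mk b : B ⧸ N) = Submodule.Quotient.mk (b - φ (κ c)) := by
      rw [Submodule.Quotient.eq]
      refine ⟨κ c, ?_⟩
      change algebraMap R B (κ c) = _
      rw [sub_sub_cancel]
      rfl
    rw [h1]
    have h2 : b - φ (κ c) ∈ (m • ⊤ : Submodule R B) := by
      rw [Ideal.smul_top_eq_map]
      exact hc
    have h3 : N.mkQ (b - φ (κ c)) ∈ Submodule.map N.mkQ (m • ⊤ : Submodule R B) :=
      Submodule.mem_map_of_mem h2
    rw [Submodule.map_smul'', Submodule.map_top, Submodule.range_mkQ] at h3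
    exact h3
  have hann : Module.annihilator R (B ⧸ N) = ⊤ := by
    by_contra hne
    obtain ⟨m, hm, hle⟩ := Ideal.exists_le_maximal _ hne
    obtain ⟨r, hr1, hr0⟩ := Submodule.exists_sub_one_mem_and_smul_eq_zero_of_fg_of_le_smul m
      (⊤ : Submodule R (B ⧸ N)) (Module.finite_def.mp inferInstance) (hQ m hm)
    have hr : r ∈ Module.annihilator R (B ⧸ N) := by
      rw [Module.mem_annihilator]
      intro q
      exact hr0 q trivial
    have : (1 : R) ∈ m := by
      have h4 := m.sub_mem (hle hr) hr1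
      simpa using h4
    exact hm.ne_top ((Ideal.eq_top_iff_one m).mpr this)
  intro b
  have h1 : (1 : R) ∈ Module.annihilator R (B ⧸ N) := by rw [hann]; trivial
  rw [Module.mem_annihilator] at h1
  have h2 := h1 (Submodule.Quotient.mk b)
  rw [one_smul, Submodule.Quotient.mk_eq_zero] at h2
  obtain ⟨r, hr⟩ := h2
  exact ⟨r, hr⟩

/-- **Nullstellensatz**: every element of a finite type algebra over an algebraically closed field
is congruent to a constant modulo any maximal ideal. -/
theorem exists_sub_mem_maximal (K : Type*) [Field K] [IsAlgClosed K] {R : Type*} [CommRing R]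
    [Algebra K R] [Algebra.FiniteType K R] (m : Ideal R) [m.IsMaximal] (r : R) :
    ∃ c : K, r - algebraMap K R c ∈ m := by
  letI : Field (R ⧸ m) := Ideal.Quotient.field m
  haveI : Algebra.FiniteType K (R ⧸ m) :=
    Algebra.FiniteType.of_surjective (Ideal.Quotient.mkₐ K m) (Ideal.Quotient.mkₐ_surjective K m)
  haveI : Module.Finite K (R ⧸ m) := finite_of_finite_type_of_isJacobsonRing K (R ⧸ m)
  haveI : Algebra.IsIntegral K (R ⧸ m) := Algebra.IsIntegral.of_finite K (R ⧸ m)
  have hb : Function.Bijective (algebraMap K (R ⧸ m)) :=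
    IsAlgClosed.algebraMap_bijective_of_isIntegral
  obtain ⟨c, hc⟩ := hb.2 (Ideal.Quotient.mk m r)
  refine ⟨c, ?_⟩
  rw [← Ideal.Quotient.eq_zero_iff_mem, map_sub, ← hc]
  simp

end Nak

end Groth.Agent.H5.VA
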