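import Mathlib
import Groth.Agent.Lib.Helper5.VA.A

/-!
# The algebraic criterion for surjectivity used for very ampleness
-/

set_option autoImplicit false
universe u

namespace Groth.Agent.H5.VA

/-- Let `φ : R → B` be a finite ring map to a finite type algebra over an algebraically closed
field `K`, compatible with a map `κ : K → R`. If there is no ideal `I` of `B` of codimension two
such that the image of `R` in `B ⧸ I` consists of constants, then `φ` is surjective. -/
theorem surjective_of_no_codim_two (K : Type*) [Field K] [IsAlgClosed K] {R B : Type*}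
    [CommRing R] [CommRing B] [Algebra K B] [Algebra.FiniteType K B]
    (κ : K →+* R) (φ : R →+* B) (hκ : ∀ c, φ (κ c) = algebraMap K B c) (hfin : φ.Finite)
    (hI : ∀ I : Ideal B, Module.finrank K (B ⧸ I) = 2 →
      ¬ ∀ r : R, ∃ c : K, φ r - algebraMap K B c ∈ I) :
    Function.Surjective φ := by
  classical
  apply surjective_of_forall_maximal κ φ hfin
  intro m hm b
  by_cases hker : RingHom.ker φ ≤ m
  swap
  · -- `m B = B`
    have htop : m.map φ = ⊤ := by
      have h1 : m ⊔ RingHom.ker φ = ⊤ := by
        by_contra hne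
        have h := hm.eq_of_le hne le_sup_left
        apply hker
        rw [h]
        exact le_sup_right
      have h2 : (1 : R) ∈ m ⊔ RingHom.ker φ := by rw [h1]; trivial
      obtain ⟨a, ha, z, hz, haz⟩ := Submodule.mem_sup.mp h2
      rw [Ideal.eq_top_iff_one]
      have h3 : φ a = 1 := by
        have := congrArg φ haz
        rw [map_add, (RingHom.mem_ker).mp hz, add_zero, map_one] at this
        exact this
      rw [← h3]
      exact Ideal.mem_map_of_mem φ ha
    exact ⟨0, by rw [htop]; trivial⟩
  -- `R / m = K`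
  algebraize [φ]
  haveI : Module.Finite R B := hfin
  haveI : Algebra.IsIntegral R B := Algebra.IsIntegral.of_finite R B
  obtain ⟨n, hn, hnm⟩ := Ideal.exists_ideal_over_maximal_of_isIntegral (S := B) m hker
  haveI := hn
  have hres : ∀ r : R, ∃ c : K, r - κ c ∈ m := by
    intro r
    obtain ⟨c, hc⟩ := exists_sub_mem_maximal K n (φ r)
    refine ⟨c, ?_⟩
    rw [← hnm, Ideal.mem_comap]
    change φ (r - κ c) ∈ n
    rw [map_sub, hκ]
    exact hc
  -- the quotient `C = B / m B` is finite over `K`
  let J : Ideal B := m.map φ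
  have hres' : ∀ r : R, ∃ c : K, φ r - algebraMap K B c ∈ J := by
    intro r
    obtain ⟨c, hc⟩ := hres r
    refine ⟨c, ?_⟩
    rw [← hκ, ← map_sub]
    exact Ideal.mem_map_of_mem φ hc
  haveI hCfin : Module.Finite K (B ⧸ J) := by
    obtain ⟨S, hS⟩ := (Module.finite_def (R := R) (M := B)).mp inferInstance
    refine ⟨⟨S.image (Ideal.Quotient.mk J), ?_⟩⟩
    rw [eq_top_iff]
    rintro x -
    obtain ⟨b, rfl⟩ := Ideal.Quotient.mk_surjective x
    have hb : b ∈ Submodule.span R (S : Set B) := by rw [hS]; trivial
    refine Submodule.span_induction ?_ ?_ ?_ ?_ hb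
    · intro s hs
      apply Submodule.subset_span
      rw [Finset.coe_image]
      exact ⟨s, hs, rfl⟩
    · rw [map_zero]; exact Submodule.zero_mem _
    · intro x y _ _ hx hy
      rw [map_add]; exact Submodule.add_mem _ hx hy
    · intro r x _ hx
      obtain ⟨c, hc⟩ := hres' r
      have : Ideal.Quotient.mk J (r • x) = c • Ideal.Quotient.mk J x := by
        rw [Algebra.smul_def, Algebra.smul_def, map_mul]
        congr 1
        change Ideal.Quotient.mk J (φ r) = Ideal.Quotient.mk J (algebraMap K B c)
        rw [Ideal.Quotient.eq]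
        exact hc
      rw [this]
      exact Submodule.smul_mem _ c hx
  by_cases h2 : 2 ≤ Module.finrank K (B ⧸ J)
  · exfalso
    obtain ⟨I', hI'⟩ := exists_ideal_finrank_quotient_eq_two K (B ⧸ J) h2
    let I : Ideal B := I'.comap (Ideal.Quotient.mk J)
    have hJI : J ≤ I := by
      intro x hx
      change Ideal.Quotient.mk J x ∈ I'
      rw [Ideal.Quotient.eq_zero_iff_mem.mpr hx]
      exact I'.zero_mem
    let π : B →ₐ[K] ((B ⧸ J) ⧸ I') :=
      (Ideal.Quotient.mkₐ K I').comp (Ideal.Quotient.mkₐ K J)
    have hπsurj : Function.Surjective π :=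
      (Ideal.Quotient.mkₐ_surjective K I').comp (Ideal.Quotient.mkₐ_surjective K J)
    have hπker : RingHom.ker (π : B →+* ((B ⧸ J) ⧸ I')) = I := by
      ext c
      rw [RingHom.mem_ker]
      change Ideal.Quotient.mk I' (Ideal.Quotient.mk J c) = 0 ↔ _
      rw [Ideal.Quotient.eq_zero_iff_mem]
      rfl
    have e : (B ⧸ I) ≃ₗ[K] ((B ⧸ J) ⧸ I') := by
      have e1 := Ideal.quotientKerAlgEquivOfSurjective hπsurj
      have e2 : (B ⧸ I) ≃ₐ[K] (B ⧸ RingHom.ker (π : B →+* ((B ⧸ J) ⧸ I'))) :=
        Ideal.quotientEquivAlgOfEq K hπker.symm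
      exact (e2.trans e1).toLinearEquiv
    apply hI I (by rw [e.finrank_eq]; exact hI')
    intro r
    obtain ⟨c, hc⟩ := hres' r
    exact ⟨c, hJI hc⟩
  · push Not at h2
    by_cases hsub : Subsingleton (B ⧸ J)
    · refine ⟨0, ?_⟩
      rw [← Ideal.Quotient.eq_zero_iff_mem]
      exact Subsingleton.elim _ _
    · rw [not_subsingleton_iff_nontrivial] at hsub
      have hinj : Function.Injective (Algebra.linearMap K (B ⧸ J)) :=
        (algebraMap K (B ⧸ J)).injective
      have hle : Module.finrank K (B ⧸ J) ≤ Module.finrank K K := by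
        rw [Module.finrank_self]; omega
      have hsurj : Function.Surjective (Algebra.linearMap K (B ⧸ J)) := by
        have hpos : 0 < Module.finrank K (B ⧸ J) := Module.finrank_pos
        have heq : Module.finrank K K = Module.finrank K (B ⧸ J) := by
          rw [Module.finrank_self]; omega
        exact (LinearMap.injective_iff_surjective_of_finrank_eq_finrank heq).mp hinj
      obtain ⟨c, hc⟩ := hsurj (Ideal.Quotient.mk J b)
      refine ⟨c, ?_⟩
      rw [hκ]
      change b - algebraMap K B c ∈ J
      rw [← Ideal.Quotient.eq_zero_iff_mem, map_sub, ← hc]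
      simp
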