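import Mathlib
import Groth.Prelude.Def_Coh
import Groth.Prelude.Def_KLin

/-!
# The closed subscheme of `X` cut out by an ideal of the coordinate ring of an affine open,
when the quotient is finite over the base field.
-/

set_option autoImplicit false
set_option linter.style.haveILetI false
universe u
open CategoryTheory CategoryTheory.Limits AlgebraicGeometry TopologicalSpace Opposite

namespace Groth.Agent.H5.VA

section General

variable {X : Scheme.{u}} {U : X.Opens} (hU : IsAffineOpen U) (I : Ideal Γ(X, U))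

/-- the morphism `Spec (Γ(X, U) / I) ⟶ X`. -/
noncomputable def quotHom : Spec (CommRingCat.of (Γ(X, U) ⧸ I)) ⟶ X :=
  Spec.map (CommRingCat.ofHom (Ideal.Quotient.mk I)) ≫ hU.fromSpec

instance : Mono (quotHom hU I) := by
  haveI : IsClosedImmersion (Spec.map (CommRingCat.ofHom (Ideal.Quotient.mk I))) :=
    IsClosedImmersion.spec_of_surjective _ Ideal.Quotient.mk_surjective
  exact mono_comp _ _

lemma quotHom_preimage : quotHom hU I ⁻¹ᵁ U = ⊤ := by
  change Spec.map _ ⁻¹ᵁ (hU.fromSpec ⁻¹ᵁ U) = ⊤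
  rw [hU.fromSpec_preimage_self]
  rfl

lemma range_quotHom_subset : Set.range (quotHom hU I) ⊆ (U : Set X) := by
  rintro _ ⟨z, rfl⟩
  have : z ∈ quotHom hU I ⁻¹ᵁ U := by rw [quotHom_preimage]; trivial
  exact this

lemma quotHom_appLE :
    (quotHom hU I).appLE U ⊤ (quotHom_preimage hU I).ge =
      CommRingCat.ofHom (Ideal.Quotient.mk I) ≫
        (Scheme.ΓSpecIso (CommRingCat.of (Γ(X, U) ⧸ I))).inv := by
  apply Spec.map_injective
  rw [← cancel_mono hU.fromSpec]
  rw [IsAffineOpen.SpecMap_appLE_fromSpec (quotHom hU I) hU (isAffineOpen_top _)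
    (quotHom_preimage hU I).ge]
  rw [IsAffineOpen.fromSpec_top, Scheme.isoSpec_Spec_inv, Spec.map_comp, Category.assoc]
  rfl

lemma quotHom_appLE_apply (b : Γ(X, U)) :
    ((quotHom hU I).appLE U ⊤ (quotHom_preimage hU I).ge).hom b =
      (Scheme.ΓSpecIso (CommRingCat.of (Γ(X, U) ⧸ I))).inv.hom (Ideal.Quotient.mk I b) := by
  rw [quotHom_appLE]
  rfl

end General

end Groth.Agent.H5.VA

namespace Groth.Agent.H5.VA

section Field

variable (k : Type u) [Field k] {X : Scheme.{u}} [X.Over (Spec (CommRingCat.of k))]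

/-- the `k`-algebra structure on the sections of the structure sheaf over an open. -/
@[reducible] noncomputable def resAlg (U : X.Opens) : Algebra k Γ(X, U) :=
  ((X.presheaf.map (homOfLE (le_top : U ≤ ⊤)).op).hom.comp
    (Coh.toGlobal (X ↘ Spec (CommRingCat.of k)))).toAlgebra

lemma resAlg_algebraMap (U : X.Opens) (c : k) :
    @algebraMap k Γ(X, U) _ _ (resAlg k U) c =
      X.presheaf.map (homOfLE (le_top : U ≤ ⊤)).op
        (Coh.toGlobal (X ↘ Spec (CommRingCat.of k)) c) := rfl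

variable {U : X.Opens} (hU : IsAffineOpen U) (I : Ideal Γ(X, U))

attribute [local instance] resAlg

/-- the structure map `k → Γ(Spec (Γ(X, U) / I), ⊤)`. -/
noncomputable abbrev tgQ : k →+* Γ(Spec (CommRingCat.of (Γ(X, U) ⧸ I)), ⊤) :=
  Coh.toGlobal (quotHom hU I ≫ (X ↘ Spec (CommRingCat.of k)))

lemma toGlobal_quotHom (c : k) :
    tgQ k hU I c =
      (Scheme.ΓSpecIso (CommRingCat.of (Γ(X, U) ⧸ I))).inv.hom
        (Ideal.Quotient.mk I (algebraMap k Γ(X, U) c)) := by
  rw [← quotHom_appLE_apply hU I, resAlg_algebraMap]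
  have h := (quotHom hU I).map_appLE (U := U) (V := ⊤) (U' := ⊤) (quotHom_preimage hU I).ge
    (homOfLE (le_top : U ≤ ⊤)).op
  have h2 := congrArg (fun φ => φ.hom (Coh.toGlobal (X ↘ Spec (CommRingCat.of k)) c)) h
  refine Eq.trans ?_ h2.symm
  change (quotHom hU I).appTop.hom _ = _
  rw [Scheme.Hom.appTop, Scheme.Hom.app_eq_appLE]
  rfl

/-- the linear equivalence `Γ(X, U) / I ≃ Γ(Spec (Γ(X, U) / I), ⊤)`. -/
noncomputable def quotEquiv :
    letI : Algebra k Γ(Spec (CommRingCat.of (Γ(X, U) ⧸ I)), ⊤) := (tgQ k hU I).toAlgebra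
    (Γ(X, U) ⧸ I) ≃ₗ[k] Γ(Spec (CommRingCat.of (Γ(X, U) ⧸ I)), ⊤) := by
  letI : Algebra k Γ(Spec (CommRingCat.of (Γ(X, U) ⧸ I)), ⊤) := (tgQ k hU I).toAlgebra
  let e : (Γ(X, U) ⧸ I) ≃+* Γ(Spec (CommRingCat.of (Γ(X, U) ⧸ I)), ⊤) :=
    (Scheme.ΓSpecIso (CommRingCat.of (Γ(X, U) ⧸ I))).symm.commRingCatIsoToRingEquiv
  exact
    { toFun := e
      map_add' := e.map_add
      invFun := e.symm
      left_inv := e.left_inv
      right_inv := e.right_inv
      map_smul' := by
        intro c x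
        change e (c • x) = (tgQ k hU I) c * e x
        rw [Algebra.smul_def, map_mul, toGlobal_quotHom]
        rfl }

theorem finrank_quotHom :
    @Module.finrank k Γ(Spec (CommRingCat.of (Γ(X, U) ⧸ I)), ⊤) _ _
      (Coh.toGlobal (quotHom hU I ≫ (X ↘ Spec (CommRingCat.of k)))).toAlgebra.toModule =
    Module.finrank k (Γ(X, U) ⧸ I) := by
  letI : Algebra k Γ(Spec (CommRingCat.of (Γ(X, U) ⧸ I)), ⊤) := (tgQ k hU I).toAlgebra
  exact (quotEquiv k hU I).finrank_eq.symm

theorem isFinite_quotHom_comp [Module.Finite k (Γ(X, U) ⧸ I)] :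
    IsFinite (quotHom hU I ≫ (X ↘ Spec (CommRingCat.of k))) := by
  rw [HasAffineProperty.iff_of_isAffine (P := @IsFinite)]
  refine ⟨inferInstance, ?_⟩
  letI : Algebra k Γ(Spec (CommRingCat.of (Γ(X, U) ⧸ I)), ⊤) := (tgQ k hU I).toAlgebra
  have h1 : (tgQ k hU I).Finite := by
    change Module.Finite k Γ(Spec (CommRingCat.of (Γ(X, U) ⧸ I)), ⊤)
    exact Module.Finite.equiv (quotEquiv k hU I)
  have h2 : ((quotHom hU I ≫ (X ↘ Spec (CommRingCat.of k))).appTop).hom =
      (tgQ k hU I).comp (Scheme.ΓSpecIso (CommRingCat.of k)).hom.hom := by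
    ext x
    change _ = ((quotHom hU I ≫ (X ↘ Spec (CommRingCat.of k))).appTop).hom
      ((Scheme.ΓSpecIso (CommRingCat.of k)).inv.hom ((Scheme.ΓSpecIso (CommRingCat.of k)).hom.hom x))
    congr 1
    exact (congrArg (fun φ => φ.hom x) (Scheme.ΓSpecIso (CommRingCat.of k)).hom_inv_id).symm
  rw [h2]
  refine RingHom.Finite.comp h1 (RingHom.Finite.of_surjective _ ?_)
  exact (Scheme.ΓSpecIso (CommRingCat.of k)).commRingCatIsoToRingEquiv.surjective

theorem isClosedImmersion_quotHom [IsSeparated (X ↘ Spec (CommRingCat.of k))]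
    [Module.Finite k (Γ(X, U) ⧸ I)] : IsClosedImmersion (quotHom hU I) := by
  haveI := isFinite_quotHom_comp k hU I
  haveI : IsFinite (quotHom hU I) := IsFinite.of_comp _ (X ↘ Spec (CommRingCat.of k))
  exact (IsClosedImmersion.iff_isFinite_and_mono _).mpr ⟨inferInstance, inferInstance⟩

end Field

end Groth.Agent.H5.VA

namespace Groth.Agent.H5.VA

section Ker

variable {X : Scheme.{u}} {U : X.Opens} (hU : IsAffineOpen U) (I : Ideal Γ(X, U))

theorem quotHom_app_eq_zero (b : Γ(X, U)) (hb : b ∈ I) : ((quotHom hU I).app U).hom b = 0 := by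
  have h1 := (quotHom hU I).appLE_map' (U := U) (V := quotHom hU I ⁻¹ᵁ U) (V' := ⊤) le_rfl
    (quotHom_preimage hU I)
  rw [Scheme.Hom.appLE_eq_app] at h1
  rw [← h1]
  have h2 : ((quotHom hU I).appLE U ⊤ (quotHom_preimage hU I).ge).hom b = 0 := by
    rw [quotHom_appLE_apply, Ideal.Quotient.eq_zero_iff_mem.mpr hb, map_zero]
  rw [CommRingCat.hom_comp, RingHom.comp_apply]
  exact (congrArg _ h2).trans (map_zero _)

theorem le_ker_ideal [QuasiCompact (quotHom hU I)] :
    I ≤ (quotHom hU I).ker.ideal ⟨U, hU⟩ := by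
  intro b hb
  rw [Scheme.Hom.ker_apply, RingHom.mem_ker]
  exact quotHom_app_eq_zero hU I b hb

theorem ker_ideal_eq_top [QuasiCompact (quotHom hU I)] (W : X.affineOpens)
    (hW : Disjoint (W.1 : Set X) (Set.range (quotHom hU I))) :
    (quotHom hU I).ker.ideal W = ⊤ := by
  rw [Scheme.Hom.ker_apply, eq_top_iff]
  intro b _
  rw [RingHom.mem_ker]
  have hbot : quotHom hU I ⁻¹ᵁ W.1 = ⊥ := by
    ext z
    simp only [Opens.coe_bot, Set.mem_empty_iff_false, iff_false]
    intro hz
    exact Set.disjoint_left.mp hW hz ⟨z, rfl⟩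
  haveI : Subsingleton Γ(Spec (CommRingCat.of (Γ(X, U) ⧸ I)), quotHom hU I ⁻¹ᵁ W.1) := by
    rw [hbot]; infer_instance
  exact Subsingleton.elim _ _

/-- the support of the kernel is discrete when the quotient ring is artinian. -/
theorem dim_support_ker_le [IsClosedImmersion (quotHom hU I)] [IsArtinianRing (Γ(X, U) ⧸ I)] :
    topologicalKrullDim ((quotHom hU I).ker.support : Set X) ≤ 0 := by
  have h1 : ((quotHom hU I).ker.support : Set X) = Set.range (quotHom hU I) := by
    rw [Scheme.Hom.support_ker]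
    exact (quotHom hU I).isClosedEmbedding.isClosed_range.closure_eq
  rw [h1]
  haveI : DiscreteTopology (Spec (CommRingCat.of (Γ(X, U) ⧸ I))) :=
    inferInstanceAs (DiscreteTopology (PrimeSpectrum (Γ(X, U) ⧸ I)))
  haveI : DiscreteTopology (Set.range (quotHom hU I)) :=
    ((quotHom hU I).isEmbedding.toHomeomorph).symm.isEmbedding.discreteTopology
  exact topologicalKrullDim_zero_of_discreteTopology _

end Ker

end Groth.Agent.H5.VA
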