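import Mathlib
import Groth.Agent.Lib.Helper5.SD.GG

/-!
# Lifting sections through the twisted ideal sheaf
-/

set_option autoImplicit false
set_option linter.style.haveILetI false
universe u
open CategoryTheory CategoryTheory.Limits AlgebraicGeometry TopologicalSpace Opposite

namespace Groth.Agent.H5.VA

open Groth.Agent.LD Groth.Agent.LD.QC Groth.Agent.H5.DegC Groth.Agent.LD.CL

variable {X : Scheme.{u}}

/-- a global section of an invertible module `L` which locally lies in `J · L` comes from
`J ⊗ L`. -/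
theorem exists_lift_of_locally_mem (L : X.Modules) [L.IsQuasicoherent]
    (hL : PicF.IsInvertible L) (J : X.IdealSheafData) (s₀ : Γ(L, ⊤))
    (hloc : ∀ y : X, ∃ (W : X.Opens) (hW : IsAffineOpen W) (e : Γ(L, W)) (f : Γ(X, W)), y ∈ W ∧
      f ∈ J.ideal ⟨W, hW⟩ ∧ L.presheaf.map (homOfLE (le_top : W ≤ ⊤)).op s₀ = f • e) :
    ∃ t : Γ(CohB1.tensorMod (ClSub.idealMod J) L, ⊤),
      (twistIncl (ClSub.idealModι J) L).app ⊤ t = s₀ := by
  classical
  let ι := ClSub.idealModι J
  let μ := twistIncl ι L
  haveI : Mono μ := mono_twistIncl ι L hL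
  let π := cokernel.π μ
  have hπμ : ∀ (V : X.Opens) (t : Γ(CohB1.tensorMod (ClSub.idealMod J) L, V)),
      π.app V (μ.app V t) = 0 := by
    intro V t
    have : (μ ≫ π).app V t = 0 := by rw [cokernel.condition]; rfl
    exact this
  choose W hW e f hyW hf hs using hloc
  have h0 : π.app ⊤ s₀ = 0 := by
    apply section_ext_of_cover (cokernel μ) W (fun _ => le_top)
    · intro y _
      exact Opens.mem_iSup.mpr ⟨y, hyW y⟩
    · intro y
      rw [map_zero, ← app_res, hs y]
      obtain ⟨c, hc⟩ := (exists_idealModι_app_eq_iff J ⟨W y, hW y⟩ (f y)).mpr (hf y)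
      have h2 : μ.app (W y) (SecTwist.tmul (ClSub.idealMod J) L (W y) c (e y)) = f y • e y := by
        rw [twistIncl_app_tmul]
        have hc' : (show Γ(X, W y) from ι.app (W y) c) = f y := hc
        rw [hc']
      rw [← h2]
      exact hπμ _ _
  exact (mem_range_mono_iff μ ⊤ s₀).mpr h0

end Groth.Agent.H5.VA
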