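import Mathlib
import Groth.Agent.Lib.Helper5.VA.C1
import Groth.Agent.Lib.Helper5.VA.C2
import Groth.Agent.Lib.Helper5.SD.SepPts
import Groth.Agent.Lib.Helper5.VAmple.B
import Groth.Agent.Lib.Lead.QC.NegTwist

/-!
# The geometric core of very ampleness in degree `≥ 2g + 1`: no subscheme of length two is
collapsed.
-/

set_option autoImplicit false
set_option linter.style.haveILetI false
universe u
open CategoryTheory CategoryTheory.Limits AlgebraicGeometry TopologicalSpace Opposite

namespace Groth.Agent.H5.VA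

open Groth.Agent.LD Groth.Agent.LD.QC Groth.Agent.H5.DegC Groth.Agent.LD.CL
  Groth.Agent.H5.VAmple Groth.Agent.H5.SD

variable (k : Type u) [Field k] (X : Scheme.{u}) [X.Over (Spec (CommRingCat.of k))]

/-- the structure map `k → Γ(X, ⊤)`. -/
noncomputable abbrev tg : k →+* Γ(X, ⊤) := Coh.toGlobal (X ↘ Spec (CommRingCat.of k))

variable [IsProper (X ↘ Spec (CommRingCat.of k))] [IsIntegral X]

attribute [local instance] resAlg

theorem core (hdim : topologicalKrullDim X = 1)
    (h0 : Module.finrank k (Coh.HH X (Coh.structureModule X) 0) = 1)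
    (M : X.Modules) (hM : PicF.IsInvertible M)
    (hdeg : 2 * (Curv2.genus k X : ℤ) + 1 ≤ Curv2.deg k X M 1)
    {n : ℕ} (s : Fin (n + 1) → ProjUP.Γm M)
    (hspan : ∀ t : ProjUP.Γm M, ∃ c : Fin (n + 1) → k, t = ∑ l, tg k X (c l) • s l)
    (j : Fin (n + 1)) (hU : IsAffineOpen (Xs M s j)) (I : Ideal Γ(X, Xs M s j))
    (hI : Module.finrank k (Γ(X, Xs M s j) ⧸ I) = 2)
    (a : Fin (n + 1) → k) (ha : ∀ l, cc M s j l - algebraMap k Γ(X, Xs M s j) (a l) ∈ I) :
    False := by
  classical
  haveI : IsNoetherian X := Groth.Agent.H5.Curve2.isNoetherian_of_proper k X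
  haveI : M.IsQuasicoherent := qc_of_isInvertible _ hM
  have hMc : Coh.IsCoh M := Groth.Agent.H5.Curve2.isCoh_of_isInvertible hM
  haveI hfinQ : Module.Finite k (Γ(X, Xs M s j) ⧸ I) := Module.finite_of_finrank_pos (by omega)
  haveI := isClosedImmersion_quotHom k hU I
  haveI : IsArtinianRing (Γ(X, Xs M s j) ⧸ I) := IsArtinianRing.of_finite k _
  let f := quotHom hU I
  let J := f.ker
  have hsupp : topologicalKrullDim (J.support : Set X) ≤ 0 := dim_support_ker_le hU I
  have hq : Module.finrank k (Coh.HH X (ClSub.quotMod J) 0) = 2 := by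
    rw [Groth.Agent.H5.Curve6.finrank_H0_quotMod_ker_eq k X f, finrank_quotHom, hI]
  obtain ⟨hsub1, -⟩ := H1_subsingleton_of_deg_gt k X hdim h0 M hM J hsupp
    (by rw [hq]; push_cast; linarith)
  obtain ⟨hc, -, he⟩ := idealTwist_facts k X M hM J hsupp
  haveI := hc.1
  have h2 := Curve.euler_eq_sub k X hdim.le (CohB1.tensorMod (ClSub.idealMod J) M)
  have h3 := Curve.euler_eq_sub k X hdim.le M
  have z1 : Module.finrank k (Coh.HH X (CohB1.tensorMod (ClSub.idealMod J) M) 1) = 0 :=
    Module.finrank_zero_of_subsingleton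
  rw [z1] at h2
  rw [hq] at he
  -- `h⁰(J ⊗ M) + 2 ≤ h⁰(M)`
  have hle : (Module.finrank k (Coh.HH X (CohB1.tensorMod (ClSub.idealMod J) M) 0) : ℤ) + 2 ≤
      Module.finrank k (Coh.HH X M 0) := by
    have : (0 : ℤ) ≤ (Module.finrank k (Coh.HH X M 1) : ℤ) := Int.natCast_nonneg _
    push_cast at h2 h3 he
    linarith
  -- the subspace of liftable classes
  let μ := twistIncl (ClSub.idealModι J) M
  let V' : Submodule k (Coh.HH X M 0) := LinearMap.range (CL.HHmap k μ 0)
  haveI := Curve.finite_HH k X _ hc 0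
  haveI := Curve.finite_HH k X _ hMc 0
  have hV' : Module.finrank k V' ≤
      Module.finrank k (Coh.HH X (CohB1.tensorMod (ClSub.idealMod J) M) 0) :=
    LinearMap.finrank_range_le _
  let v : Coh.HH X M 0 := (CL.HH0Equiv M).symm (s j)
  -- every section `s_l - a_l s_j` lifts
  have hlift : ∀ l, ∃ τ : Γ(CohB1.tensorMod (ClSub.idealMod J) M, ⊤),
      μ.app ⊤ τ = s l - tg k X (a l) • s j := by
    intro l
    apply exists_lift_of_locally_mem M hM J
    intro y
    by_cases hy : y ∈ Xs M s j
    · refine ⟨Xs M s j, hU, M.presheaf.map (homOfLE (le_top : Xs M s j ≤ ⊤)).op (s j),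
        cc M s j l - algebraMap k Γ(X, Xs M s j) (a l), hy, le_ker_ideal hU I (ha l), ?_⟩
      rw [map_sub, cc_spec, smul_res, sub_smul]
      rfl
    · have hyr : y ∉ Set.range f := fun h => hy (range_quotHom_subset hU I h)
      have hcl : IsClosed (Set.range f) := f.isClosedEmbedding.isClosed_range
      let V₀ : X.Opens := ⟨(Set.range f)ᶜ, hcl.isOpen_compl⟩
      have hyV₀ : y ∈ V₀ := hyr
      obtain ⟨W, hW, hyW, hWle⟩ := exists_isAffineOpen_mem_and_subset (x := y) (U := V₀) hyV₀
      have hd : Disjoint ((⟨W, hW⟩ : X.affineOpens).1 : Set X) (Set.range f) := by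
        rw [Set.disjoint_left]
        intro z hzW hzZ
        exact hWle hzW hzZ
      have htop := ker_ideal_eq_top hU I ⟨W, hW⟩ hd
      refine ⟨W, hW, M.presheaf.map (homOfLE (le_top : W ≤ ⊤)).op (s l - tg k X (a l) • s j), 1,
        hyW, ?_, (one_smul _ _).symm⟩
      change (1 : Γ(X, W)) ∈ (quotHom hU I).ker.ideal ⟨W, hW⟩
      rw [htop]; trivial
  choose τ hτ using hlift
  have hclaim : ∀ x : Coh.HH X M 0, ∃ c : k, x - c • v ∈ V' := by
    intro x
    obtain ⟨c, hc⟩ := hspan (CL.HH0Equiv M x)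
    refine ⟨∑ l, c l * a l, ?_⟩
    refine ⟨(CL.HH0Equiv _).symm (∑ l, tg k X (c l) • τ l), ?_⟩
    apply (CL.HH0Equiv M).injective
    rw [Groth.Agent.LD.NegTwist.HH0Equiv_HHmap, AddEquiv.apply_symm_apply, map_sub]
    have h5 : CL.HH0Equiv M ((∑ l, c l * a l) • v) = tg k X (∑ l, c l * a l) • s j := by
      have := CL.HH0Equiv_smul M (Coh.toGlobal (X ↘ Spec (CommRingCat.of k)) (∑ l, c l * a l)) v
      rw [AddEquiv.apply_symm_apply] at this
      exact this
    rw [h5, hc, map_sum, map_sum, Finset.sum_smul, ← Finset.sum_sub_distrib]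
    apply Finset.sum_congr rfl
    intro l _
    rw [Scheme.Modules.Hom.app_smul, hτ, smul_sub, smul_smul, map_mul]
  -- dimension count
  have hdimV : Module.finrank k (Coh.HH X M 0) ≤ Module.finrank k V' + 1 := by
    have htop : (⊤ : Submodule k (Coh.HH X M 0)) ≤ V' ⊔ Submodule.span k {v} := by
      intro x _
      obtain ⟨c, hc⟩ := hclaim x
      have : x = (x - c • v) + c • v := by abel
      rw [this]
      exact Submodule.add_mem _ (Submodule.mem_sup_left hc)
        (Submodule.mem_sup_right (Submodule.smul_mem _ c (Submodule.mem_span_singleton_self v)))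
    have h6 : Module.finrank k (Coh.HH X M 0) ≤
        Module.finrank k (V' ⊔ Submodule.span k {v} : Submodule k (Coh.HH X M 0)) := by
      rw [← finrank_top k (Coh.HH X M 0)]
      exact Submodule.finrank_mono htop
    have h7 := Submodule.finrank_add_le_finrank_add_finrank V' (Submodule.span k {v})
    have h8 : Module.finrank k (Submodule.span k {v}) ≤ 1 := by
      refine (finrank_span_le_card ({v} : Set (Coh.HH X M 0))).trans ?_
      simp
    omega
  omega

end Groth.Agent.H5.VA
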