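import Mathlib
import Groth.Agent.Lib.Helper5.VA.A2
import Groth.Agent.Lib.Helper5.VA.C3
import Groth.Agent.Lib.Helper5.VAmple.C
import Groth.Agent.Lib.Helper5.Curve5.AffGen
import Groth.Agent.Lib.Helper5.Curve2.G
import Groth.Agent.Lib.Helper5.AG.ProjProper

/-!
# Very ampleness in degree `≥ 2g + 1` over an algebraically closed field.
-/

set_option autoImplicit false
set_option linter.style.haveILetI false
universe u
open CategoryTheory CategoryTheory.Limits AlgebraicGeometry TopologicalSpace Opposite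
  HomogeneousLocalization

namespace Groth.Agent.H5.VA

open Groth.Agent.LD Groth.Agent.LD.QC Groth.Agent.H5.DegC Groth.Agent.LD.CL
  Groth.Agent.H5.VAmple Groth.Agent.H5.SD Twist Groth.Agent.H2.PUP Groth.Agent.H5.Segre

section Charts

variable {X S : Scheme.{u}} (q : X ⟶ S) (L : X.Modules) (hL : PicF.IsInvertible L) {n : ℕ}
  (s : Fin (n + 1) → ProjUP.Γm L) (hs : ProjUP.GeneratedBy L s)

/-- the standard chart of `P^n_S`. -/
noncomputable def chartW (k : Fin (n + 1)) : (CohB1.ProjSpaceOver n S).Opens :=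
  pullback.fst (CohB1.ProjSpace.toSpec n (ULift.{u} ℤ)) (specULiftZIsTerminal.from S) ⁻¹ᵁ
      Dp n (ULift.{u} ℤ) k ⊓
    pullback.snd (CohB1.ProjSpace.toSpec n (ULift.{u} ℤ)) (specULiftZIsTerminal.from S) ⁻¹ᵁ ⊤

lemma iSup_chartW : ⨆ k, chartW (S := S) (n := n) k = ⊤ := by
  rw [eq_top_iff]
  intro x _
  obtain ⟨k, hk⟩ := exists_mem_Dp n (ULift.{u} ℤ)
    (pullback.fst (CohB1.ProjSpace.toSpec n (ULift.{u} ℤ)) (specULiftZIsTerminal.from S) x)
  exact Opens.mem_iSup.mpr ⟨k, ⟨hk, trivial⟩⟩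

lemma isAffineOpen_chartW [IsAffine S] (k : Fin (n + 1)) :
    IsAffineOpen (chartW (S := S) (n := n) k) :=
  isAffineOpen_inf_of_isPullback (IsPullback.of_hasPullback _ _)
    (isAffineOpen_Dp n (ULift.{u} ℤ) k) (isAffineOpen_top S) (isAffineOpen_top _) le_top le_top

lemma toPn_preimage_chartW (k : Fin (n + 1)) :
    toPn q L hL s hs ⁻¹ᵁ chartW k = Xs L s k := by
  have h1 : toPn q L hL s hs ⁻¹ᵁ chartW k =
      (toPn q L hL s hs ≫ pullback.fst (CohB1.ProjSpace.toSpec n (ULift.{u} ℤ))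
        (specULiftZIsTerminal.from S)) ⁻¹ᵁ Dp n (ULift.{u} ℤ) k ⊓
      (toPn q L hL s hs ≫ pullback.snd (CohB1.ProjSpace.toSpec n (ULift.{u} ℤ))
        (specULiftZIsTerminal.from S)) ⁻¹ᵁ ⊤ := rfl
  have h2 : (toPn q L hL s hs ≫ pullback.fst (CohB1.ProjSpace.toSpec n (ULift.{u} ℤ))
        (specULiftZIsTerminal.from S)) ⁻¹ᵁ Dp n (ULift.{u} ℤ) k = Xs L s k :=
    (preimage_congr_hom (toPn_fst q L hL s hs) _).trans (toPnZ_preimage L hL s hs k)
  rw [h1, h2]
  exact inf_eq_left.mpr le_top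

/-- the ratios `s_l / s_k` come from the chart. -/
lemma exists_chart_elem (k l : Fin (n + 1)) :
    ∃ r : Γ(CohB1.ProjSpaceOver n S, chartW k),
      ((toPn q L hL s hs).appLE (chartW k) (Xs L s k)
        (toPn_preimage_chartW q L hL s hs k).ge).hom r = cc L s k l := by
  refine ⟨(pullback.fst (CohB1.ProjSpace.toSpec n (ULift.{u} ℤ))
      (specULiftZIsTerminal.from S)).appLE (Dp n (ULift.{u} ℤ) k) (chartW k) inf_le_left
        (Proj.awayToSection (CohB1.polyGrading n (ULift.{u} ℤ)) (xi n (ULift.{u} ℤ) k)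
          (frac1 (CohB1.polyGrading n (ULift.{u} ℤ)) (ιPn n _) (ιPn_mem n _)
            (xi_mem n (ULift.{u} ℤ) k) (ei n (ULift.{u} ℤ) l))), ?_⟩
  have h1 := Scheme.Hom.appLE_comp_appLE (toPn q L hL s hs)
    (pullback.fst (CohB1.ProjSpace.toSpec n (ULift.{u} ℤ)) (specULiftZIsTerminal.from S))
    (Dp n (ULift.{u} ℤ) k) (chartW k) (Xs L s k) inf_le_left
    (toPn_preimage_chartW q L hL s hs k).ge
  have h2 := appLE_congr_hom (toPn_fst q L hL s hs) (U := Dp n (ULift.{u} ℤ) k)
    (V := Xs L s k)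
    ((toPn_preimage_chartW q L hL s hs k).ge.trans
      ((Opens.map (toPn q L hL s hs).base).monotone inf_le_left))
    ((toPnZ_preimage L hL s hs k).ge)
  have h3 := chartHom_toPnZ L hL s hs k l (le_refl (Xs L s k))
  rw [chartHom_apply] at h3
  refine (congr($h1 _)).trans ((congr($h2 _)).trans (h3.trans ?_))
  exact res_self (unitMod X) _ _

end Charts

end Groth.Agent.H5.VA

namespace Groth.Agent.H5.VA

open Groth.Agent.LD Groth.Agent.LD.QC Groth.Agent.H5.DegC Groth.Agent.LD.CL
  Groth.Agent.H5.VAmple Groth.Agent.H5.SD Twist Groth.Agent.H2.PUP Groth.Agent.H5.Segre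

section AlgClosed

variable (k : Type u) [Field k] [IsAlgClosed k] (X : Scheme.{u})
  [X.Over (Spec (CommRingCat.of k))] [IsProper (X ↘ Spec (CommRingCat.of k))] [IsIntegral X]

attribute [local instance] resAlg

/-- sections over an affine open of a scheme of finite type over `k` form a finite type
algebra. -/
lemma finiteType_resAlg {U : X.Opens} (hU : IsAffineOpen U) : Algebra.FiniteType k Γ(X, U) := by
  have h1 : ((X ↘ Spec (CommRingCat.of k)).appLE ⊤ U le_top).hom.FiniteType :=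
    (X ↘ Spec (CommRingCat.of k)).finiteType_appLE (isAffineOpen_top _) hU le_top
  have h2 : (algebraMap k Γ(X, U)) =
      ((X ↘ Spec (CommRingCat.of k)).appLE ⊤ U le_top).hom.comp
        (Scheme.ΓSpecIso (CommRingCat.of k)).inv.hom := by
    ext c
    rfl
  have h3 : (algebraMap k Γ(X, U)).FiniteType := by
    rw [h2]
    refine RingHom.FiniteType.comp h1 (RingHom.FiniteType.of_surjective _ ?_)
    exact (Scheme.ΓSpecIso (CommRingCat.of k)).symm.commRingCatIsoToRingEquiv.surjective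
  exact h3

theorem isClosedImmersion_toPn (hdim : topologicalKrullDim X = 1)
    (h0 : Module.finrank k (Coh.HH X (Coh.structureModule X) 0) = 1)
    (M : X.Modules) (hM : PicF.IsInvertible M)
    (hdeg : 2 * (Curv2.genus k X : ℤ) + 1 ≤ Curv2.deg k X M 1)
    {n : ℕ} (s : Fin (n + 1) → ProjUP.Γm M) (hs : ProjUP.GeneratedBy M s)
    (hspan : ∀ t : ProjUP.Γm M, ∃ c : Fin (n + 1) → k, t = ∑ l, tg k X (c l) • s l) :
    IsClosedImmersion (toPn (X ↘ Spec (CommRingCat.of k)) M hM s hs) := by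
  classical
  let q := X ↘ Spec (CommRingCat.of k)
  let ψ := toPn q M hM s hs
  have hA : CohB1.IsAmple M := by
    apply Groth.Agent.H5.Curve2.isAmple_of_deg_pos k X hdim.le hM
    have : (0 : ℤ) ≤ (Curv2.genus k X : ℤ) := Int.natCast_nonneg _
    linarith
  have haff : ∀ j, IsAffineOpen (Xs M s j) := by
    intro j
    rw [Xs_eq]
    exact Groth.Agent.H5.Curve5.isAffineOpen_genLocus_of_isAmple_of_isProper q M hA _
  have hpre : ∀ j, ψ ⁻¹ᵁ chartW j = Xs M s j := toPn_preimage_chartW q M hM s hs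
  -- `ψ` is finite
  haveI : IsSeparated (CohB1.ProjSpaceOver.toBase n (Spec (CommRingCat.of k))) :=
    (Groth.Agent.H5.AG.isProper_toBase n _).toIsSeparated
  haveI : IsProper (ψ ≫ CohB1.ProjSpaceOver.toBase n (Spec (CommRingCat.of k))) := by
    rw [toPn_toBase]; infer_instance
  haveI : IsProper ψ := IsProper.of_comp ψ (CohB1.ProjSpaceOver.toBase n (Spec (CommRingCat.of k)))
  haveI : IsAffineHom ψ := by
    apply isAffineHom_of_forall_exists_isAffineOpen
    intro x
    have hx : x ∈ (⨆ j, chartW (S := Spec (CommRingCat.of k)) (n := n) j) := by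
      rw [iSup_chartW]; trivial
    obtain ⟨j, hj⟩ := Opens.mem_iSup.mp hx
    exact ⟨chartW j, hj, isAffineOpen_chartW j, by rw [hpre]; exact haff j⟩
  haveI : IsFinite ψ := IsFinite.iff_isProper_and_isAffineHom.mpr ⟨inferInstance, inferInstance⟩
  apply IsZariskiLocalAtTarget.of_iSup_eq_top (P := @IsClosedImmersion) _ (iSup_chartW (n := n))
  intro j
  refine isClosedImmersion_morphismRestrict ψ (isAffineOpen_chartW j) (haff j) (hpre j)
    (hpre j).ge ?_
  -- surjectivity on the chart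
  haveI := finiteType_resAlg k X (haff j)
  let κ : k →+* Γ(CohB1.ProjSpaceOver n (Spec (CommRingCat.of k)), chartW j) :=
    ((CohB1.ProjSpaceOver n (Spec (CommRingCat.of k))).presheaf.map
      (homOfLE (le_top : chartW j ≤ ⊤)).op).hom.comp
      (Coh.toGlobal (CohB1.ProjSpaceOver.toBase n (Spec (CommRingCat.of k))))
  have hfin : (ψ.appLE (chartW j) (Xs M s j) (hpre j).ge).hom.Finite := by
    have h1 : (ψ.app (chartW j)).hom.Finite := ψ.finite_app (chartW j) (isAffineOpen_chartW j)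
    rw [← Scheme.Hom.appLE_eq_app] at h1
    exact (Scheme.Hom.appLE_congr ψ (hpre j).ge rfl (hpre j).symm
      (fun φ => φ.hom.Finite)).mpr h1
  apply surjective_of_no_codim_two k κ _ ?_ hfin
  · intro I hI hall
    choose r hr using fun l => exists_chart_elem q M hM s hs j l
    choose a ha using fun l => hall (r l)
    refine core k X hdim h0 M hM hdeg s hspan j (haff j) I hI a ?_
    intro l
    rw [← hr l]
    exact ha l
  · intro c
    have h1 := ψ.map_appLE (U := chartW j) (V := Xs M s j) (U' := ⊤) (hpre j).ge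
      (homOfLE (le_top : chartW j ≤ ⊤)).op
    have h2 := congrArg (fun φ => φ.hom
      (Coh.toGlobal (CohB1.ProjSpaceOver.toBase n (Spec (CommRingCat.of k))) c)) h1
    refine h2.trans ?_
    have h3 : Coh.toGlobal (ψ ≫ CohB1.ProjSpaceOver.toBase n (Spec (CommRingCat.of k))) c =
        Coh.toGlobal q c := by
      rw [toPn_toBase]
    rw [resAlg_algebraMap]
    change X.presheaf.map _ (ψ.appTop.hom _) = _
    exact congrArg _ h3

end AlgClosed

end Groth.Agent.H5.VA
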