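import Mathlib
import Groth.Agent.Lib.Helper5.VA.E1
import Groth.Agent.Lib.Helper5.VA.C3
import Groth.Agent.Lib.Lead.FBC.SecTop
import Groth.Agent.Lib.Lead.FBC.AffineSec
import Groth.Agent.Lib.Helper5.AG.HProj
import Groth.Agent.Lib.Helper5.AG.ProjProper

/-!
# Base change to a field extension: spanning sections and descent of closed immersions
-/

set_option autoImplicit false
set_option linter.style.haveILetI false
universe u
open CategoryTheory CategoryTheory.Limits AlgebraicGeometry TopologicalSpace Opposite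
  TensorProduct

namespace Groth.Agent.H5.VA

open Groth.Agent.LD Groth.Agent.LD.QC Groth.Agent.H5.VAmple Groth.Agent.H2.PUP
  Groth.Agent.H5.AG

section BC

variable (k : Type u) [Field k] (K : Type u) [Field K] [Algebra k K]
  (X Y : Scheme.{u}) [X.Over (Spec (CommRingCat.of k))] [Y.Over (Spec (CommRingCat.of K))]
  (g : Y ⟶ X)
  (hpb : IsPullback g (Y ↘ Spec (CommRingCat.of K)) (X ↘ Spec (CommRingCat.of k))
    (Spec.map (CommRingCat.ofHom (algebraMap k K))))

/-- the property of being a `K`-combination of the pulled back sections. -/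
def IsComb (L : X.Modules) {n : ℕ} (s : Fin (n + 1) → ProjUP.Γm L)
    (t : ProjUP.Γm ((Scheme.Modules.pullback g).obj L)) : Prop :=
  ∃ c : Fin (n + 1) → K, t = ∑ l, tg K Y (c l) • ProjUP.pullSec g L (s l)

lemma isComb_zero (L : X.Modules) {n : ℕ} (s : Fin (n + 1) → ProjUP.Γm L) :
    IsComb K X Y g L s 0 := by
  refine ⟨fun _ => 0, ?_⟩
  simp

lemma isComb_add (L : X.Modules) {n : ℕ} (s : Fin (n + 1) → ProjUP.Γm L)
    (t t' : ProjUP.Γm ((Scheme.Modules.pullback g).obj L))
    (ht : IsComb K X Y g L s t) (ht' : IsComb K X Y g L s t') : IsComb K X Y g L s (t + t') := by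
  obtain ⟨c, hc⟩ := ht
  obtain ⟨d, hd⟩ := ht'
  refine ⟨fun l => c l + d l, ?_⟩
  rw [hc, hd, ← Finset.sum_add_distrib]
  apply Finset.sum_congr rfl
  intro l _
  rw [map_add, add_smul]

lemma isComb_smul (L : X.Modules) {n : ℕ} (s : Fin (n + 1) → ProjUP.Γm L) (b : K)
    (t : ProjUP.Γm ((Scheme.Modules.pullback g).obj L))
    (ht : IsComb K X Y g L s t) : IsComb K X Y g L s (tg K Y b • t) := by
  obtain ⟨c, hc⟩ := ht
  refine ⟨fun l => b * c l, ?_⟩
  rw [hc, Finset.smul_sum]
  apply Finset.sum_congr rfl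
  intro l _
  rw [smul_smul, map_mul]

include hpb in
lemma isComb_unitSec (L : X.Modules) {n : ℕ} (s : Fin (n + 1) → ProjUP.Γm L)
    (H1 : ∀ t : ProjUP.Γm L, ∃ c : Fin (n + 1) → k, t = ∑ l, tg k X (c l) • s l)
    (s' : ProjUP.Γm L) : IsComb K X Y g L s (unitSec g L ⊤ s') := by
  obtain ⟨c, hc⟩ := H1 s'
  refine ⟨fun l => algebraMap k K (c l), ?_⟩
  rw [hc]
  have h3 : unitSec g L ⊤ (∑ l, tg k X (c l) • s l) =
      ∑ l, unitSec g L ⊤ (tg k X (c l) • s l) :=
    map_sum (((Scheme.Modules.pullbackPushforwardAdjunction g).unit.app L).app ⊤).hom _ _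
  refine h3.trans ?_
  apply Finset.sum_congr rfl
  intro l _
  have h5 := unitSec_smul g L ⊤ (tg k X (c l)) (s l)
  refine h5.trans ?_
  have h4 : g.app ⊤ (tg k X (c l)) = tg K Y (algebraMap k K (c l)) :=
    Groth.Agent.LD.FBC.toGlobal_compat (X ↘ Spec (CommRingCat.of k))
      (Y ↘ Spec (CommRingCat.of K)) g hpb (c l)
  rw [h4]
  rfl

include hpb in
/-- sections spanning `Γ(X, L)` over `k` pull back to sections spanning `Γ(Y, g^*L)` over `K`. -/
theorem span_pullSec [CompactSpace X] [QuasiSeparatedSpace X] (L : X.Modules)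
    [L.IsQuasicoherent] {n : ℕ} (s : Fin (n + 1) → ProjUP.Γm L)
    (H1 : ∀ t : ProjUP.Γm L, ∃ c : Fin (n + 1) → k, t = ∑ l, tg k X (c l) • s l) :
    ∀ t : ProjUP.Γm ((Scheme.Modules.pullback g).obj L), ∃ c : Fin (n + 1) → K,
      t = ∑ l, tg K Y (c l) • ProjUP.pullSec g L (s l) := by
  intro t
  have hbij := Groth.Agent.LD.FBC.bijective_secMap_top (X ↘ Spec (CommRingCat.of k))
    (Y ↘ Spec (CommRingCat.of K)) g hpb L
  obtain ⟨z, hz⟩ := hbij.2 t
  change IsComb K X Y g L s t
  rw [← hz]
  clear hz t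
  induction z using TensorProduct.induction_on with
  | zero =>
    rw [map_zero]
    exact isComb_zero K X Y g L s
  | add x y hx hy =>
    rw [map_add]
    exact isComb_add K X Y g L s _ _ hx hy
  | tmul b s' =>
    rw [Groth.Agent.LD.FBC.secMap_tmul]
    have h3 : Groth.Agent.LD.FBC.resΓ Y (g ⁻¹ᵁ ⊤)
        ((Coh.toGlobal (Y ↘ Spec (CommRingCat.of K))) b) = tg K Y b := by
      change (Y.ringCatSheaf.obj.map (𝟙 (op (⊤ : Y.Opens)))).hom _ = _
      rw [Y.ringCatSheaf.obj.map_id]
      rfl
    rw [h3]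
    exact isComb_smul K X Y g L s b _ (isComb_unitSec k K X Y g hpb L s H1 s')

end BC

end Groth.Agent.H5.VA

namespace Groth.Agent.H5.VA

open Groth.Agent.LD Groth.Agent.LD.QC Groth.Agent.H5.VAmple Groth.Agent.H2.PUP
  Groth.Agent.H5.AG

section Descent

/-- monomorphisms descend along fpqc morphisms. -/
instance descendsAlong_mono_fpqc :
    MorphismProperty.DescendsAlong (MorphismProperty.monomorphisms Scheme.{u})
      (@Surjective ⊓ @Flat ⊓ @QuasiCompact) := by
  rw [← MorphismProperty.diagonal_isomorphisms]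
  infer_instance

variable (k : Type u) [Field k] (K : Type u) [Field K] [Algebra k K]
  (X Y : Scheme.{u}) [X.Over (Spec (CommRingCat.of k))] [Y.Over (Spec (CommRingCat.of K))]
  (g : Y ⟶ X)
  (hpb : IsPullback g (Y ↘ Spec (CommRingCat.of K)) (X ↘ Spec (CommRingCat.of k))
    (Spec.map (CommRingCat.ofHom (algebraMap k K))))

include hpb in
/-- **descent of the closed immersion to projective space along a field extension**. -/
theorem isClosedImmersion_toPn_of_pullback [IsProper (X ↘ Spec (CommRingCat.of k))]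
    (L : X.Modules) (hL : PicF.IsInvertible L) {n : ℕ}
    (s : Fin (n + 1) → ProjUP.Γm L) (hs : ProjUP.GeneratedBy L s)
    (hM : PicF.IsInvertible ((Scheme.Modules.pullback g).obj L))
    (ht : ProjUP.GeneratedBy ((Scheme.Modules.pullback g).obj L)
      (fun l => ProjUP.pullSec g L (s l)))
    (hψ : IsClosedImmersion (toPn (Y ↘ Spec (CommRingCat.of K))
      ((Scheme.Modules.pullback g).obj L) hM (fun l => ProjUP.pullSec g L (s l)) ht)) :
    IsClosedImmersion (toPn (X ↘ Spec (CommRingCat.of k)) L hL s hs) := by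
  let gS := Spec.map (CommRingCat.ofHom (algebraMap k K))
  let φ := toPn (X ↘ Spec (CommRingCat.of k)) L hL s hs
  let ψ := toPn (Y ↘ Spec (CommRingCat.of K))
      ((Scheme.Modules.pullback g).obj L) hM (fun l => ProjUP.pullSec g L (s l)) ht
  have hbot := projMap_isPullback n gS
  have hcomm : ψ ≫ projMap n gS = g ≫ φ := by
    apply pullback.hom_ext
    · refine (Category.assoc _ _ _).trans ?_
      refine Eq.trans ?_ (Category.assoc _ _ _).symm
      have h1 : projMap n gS ≫ pullback.fst (CohB1.ProjSpace.toSpec n (ULift.{u} ℤ))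
          (specULiftZIsTerminal.from (Spec (CommRingCat.of k))) =
          pullback.fst (CohB1.ProjSpace.toSpec n (ULift.{u} ℤ))
            (specULiftZIsTerminal.from (Spec (CommRingCat.of K))) :=
        (pullback.lift_fst _ _ _).trans (Category.comp_id _)
      have h2 := toPn_fst (Y ↘ Spec (CommRingCat.of K))
        ((Scheme.Modules.pullback g).obj L) hM (fun l => ProjUP.pullSec g L (s l)) ht
      have h3 := toPn_fst (X ↘ Spec (CommRingCat.of k)) L hL s hs
      exact (congrArg (fun m => ψ ≫ m) h1).trans (h2.trans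
        ((toPnZ_pullback g L hL s hs hM ht).trans (congrArg (fun m => g ≫ m) h3).symm))
    · refine (Category.assoc _ _ _).trans ?_
      refine Eq.trans ?_ (Category.assoc _ _ _).symm
      have h1 : projMap n gS ≫ pullback.snd (CohB1.ProjSpace.toSpec n (ULift.{u} ℤ))
          (specULiftZIsTerminal.from (Spec (CommRingCat.of k))) =
          pullback.snd (CohB1.ProjSpace.toSpec n (ULift.{u} ℤ))
            (specULiftZIsTerminal.from (Spec (CommRingCat.of K))) ≫ gS :=
        pullback.lift_snd _ _ _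
      have h2 := toPn_snd (Y ↘ Spec (CommRingCat.of K))
        ((Scheme.Modules.pullback g).obj L) hM (fun l => ProjUP.pullSec g L (s l)) ht
      have h3 := toPn_snd (X ↘ Spec (CommRingCat.of k)) L hL s hs
      refine (congrArg (fun m => ψ ≫ m) h1).trans ?_
      refine (Category.assoc _ _ _).symm.trans ?_
      exact (congrArg (· ≫ gS) h2).trans (hpb.w.symm.trans (congrArg (fun m => g ≫ m) h3).symm)
  have htop : IsPullback g ψ φ (projMap n gS) := by
    refine IsPullback.of_bot ?_ hcomm.symm hbot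
    have e1 : ψ ≫ CohB1.ProjSpaceOver.toBase n (Spec (CommRingCat.of K)) =
        Y ↘ Spec (CommRingCat.of K) := toPn_toBase _ _ _ _ _
    have e2 : φ ≫ CohB1.ProjSpaceOver.toBase n (Spec (CommRingCat.of k)) =
        X ↘ Spec (CommRingCat.of k) := toPn_toBase _ _ _ _ _
    rw [e1, e2]
    exact hpb
  -- `gS` is fpqc
  have hQS : (@Surjective ⊓ @Flat ⊓ @QuasiCompact : MorphismProperty Scheme.{u}) gS := by
    refine ⟨⟨?_, ?_⟩, ?_⟩
    · exact ⟨fun x => ⟨default, Subsingleton.elim _ _⟩⟩
    · change Flat (Spec.map (CommRingCat.ofHom (algebraMap k K)))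
      rw [HasRingHomProperty.Spec_iff (P := @Flat)]
      change (algebraMap k K).Flat
      rw [RingHom.flat_algebraMap_iff]
      infer_instance
    · change QuasiCompact gS
      infer_instance
  have hQ : (@Surjective ⊓ @Flat ⊓ @QuasiCompact : MorphismProperty Scheme.{u}) (projMap n gS) :=
    MorphismProperty.of_isPullback hbot.flip hQS
  -- properness
  haveI : IsSeparated (CohB1.ProjSpaceOver.toBase n (Spec (CommRingCat.of k))) :=
    (Groth.Agent.H5.AG.isProper_toBase n _).toIsSeparated
  haveI : IsProper (φ ≫ CohB1.ProjSpaceOver.toBase n (Spec (CommRingCat.of k))) := by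
    rw [toPn_toBase]; infer_instance
  haveI : IsProper φ := IsProper.of_comp φ (CohB1.ProjSpaceOver.toBase n (Spec (CommRingCat.of k)))
  have hmonoψ : MorphismProperty.monomorphisms Scheme.{u} ψ :=
    MorphismProperty.monomorphisms.infer_property ψ
  have hmono : MorphismProperty.monomorphisms Scheme.{u} φ :=
    MorphismProperty.of_isPullback_of_descendsAlong
      (Q := (@Surjective ⊓ @Flat ⊓ @QuasiCompact : MorphismProperty Scheme.{u})) htop.flip hQ hmonoψ
  haveI : Mono φ := hmono
  rw [IsClosedImmersion.eq_proper_inf_monomorphisms]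
  exact ⟨inferInstance, hmono⟩

end Descent

end Groth.Agent.H5.VA
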