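import Mathlib
import Groth.Agent.Lib.Helper5.VA.D1
import Groth.Agent.Lib.Helper5.VA.E2
import Groth.Agent.Lib.Helper5.SD.SepBCb
import Groth.Agent.Lib.Helper5.SD.GG3
import Groth.Agent.Lib.Helper5.SD.VAmp4

/-!
# S1611: an invertible module of degree `≥ 2g + 1` on a geometrically integral proper curve is
very ample.
-/

set_option autoImplicit false
set_option linter.style.haveILetI false
universe u
open CategoryTheory CategoryTheory.Limits AlgebraicGeometry TopologicalSpace Opposite

namespace Groth.Agent.H5.VA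

open Groth.Agent.LD Groth.Agent.LD.QC Groth.Agent.LD.CL Groth.Agent.H5.VAmple
  Groth.Agent.H5.SD Groth.Agent.H5.GG Groth.Agent.H5.Glue

section BC

variable (k : Type u) [Field k] (K : Type u) [Field K] [Algebra k K] [IsAlgClosed K]
  (X Y : Scheme.{u}) [X.Over (Spec (CommRingCat.of k))] [Y.Over (Spec (CommRingCat.of K))]
  (g : Y ⟶ X)
  (hpb : IsPullback g (Y ↘ Spec (CommRingCat.of K)) (X ↘ Spec (CommRingCat.of k))
    (Spec.map (CommRingCat.ofHom (algebraMap k K))))
  [IsProper (X ↘ Spec (CommRingCat.of k))]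
  [GeometricallyIntegral (X ↘ Spec (CommRingCat.of k))]

include hpb in
theorem isClosedImmersion_toPn_of_bc (hdimX : topologicalKrullDim X = 1)
    (L : X.Modules) (hL : PicF.IsInvertible L)
    (hdeg : 2 * (Curv2.genus k X : ℤ) + 1 ≤ Curv2.deg k X L 1)
    {n : ℕ} (s : Fin (n + 1) → ProjUP.Γm L) (hs : ProjUP.GeneratedBy L s)
    (H1 : ∀ t : ProjUP.Γm L, ∃ c : Fin (n + 1) → k, t = ∑ l, tg k X (c l) • s l) :
    IsClosedImmersion (toPn (X ↘ Spec (CommRingCat.of k)) L hL s hs) := by
  haveI : IsIntegral X :=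
    GeometricallyIntegral.isIntegral_of_subsingleton (f := X ↘ Spec (CommRingCat.of k))
  haveI : IsNoetherian X := Groth.Agent.H5.Curve2.isNoetherian_of_proper k X
  haveI : CompactSpace X := Curve.compactSpace k X
  haveI : QuasiSeparatedSpace X := Curve.quasiSeparatedSpace k X
  haveI : L.IsQuasicoherent := qc_of_isInvertible _ hL
  haveI : IsProper (Y ↘ Spec (CommRingCat.of K)) :=
    MorphismProperty.of_isPullback hpb (inferInstance : IsProper (X ↘ Spec (CommRingCat.of k)))
  haveI : GeometricallyIntegral (Y ↘ Spec (CommRingCat.of K)) :=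
    MorphismProperty.of_isPullback hpb
      (inferInstance : GeometricallyIntegral (X ↘ Spec (CommRingCat.of k)))
  haveI : IsIntegral Y :=
    GeometricallyIntegral.isIntegral_of_subsingleton (f := Y ↘ Spec (CommRingCat.of K))
  haveI : GeometricallyConnected (Y ↘ Spec (CommRingCat.of K)) :=
    Groth.Agent.H9.TOR.geometricallyConnected_of_geometricallyIrreducible _
  have hdimY : topologicalKrullDim Y = 1 := by
    rw [Groth.Agent.H3.FBaseDim.dim_of_isPullback_field
      (CommRingCat.ofHom (algebraMap k K)) (X ↘ Spec (CommRingCat.of k))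
      (Y ↘ Spec (CommRingCat.of K)) g hpb, hdimX]
  have h0Y : Module.finrank K (Coh.HH Y (Coh.structureModule Y) 0) = 1 :=
    Groth.Agent.LD.FF.finrank_HH0_eq_one K Y
  let M := (Scheme.Modules.pullback g).obj L
  have hM : PicF.IsInvertible M := isInvertible_pullback g hL
  have hgenus : Curv2.genus K Y = Curv2.genus k X := by
    haveI : (unitMod X).IsQuasicoherent := qc_of_isInvertible _ (isInvertible_unit X)
    have h1 := Groth.Agent.LD.FBC.finrank_HH_bc k K X Y g hpb (unitMod X) 1
    have h2 : Module.finrank K (Coh.HH Y (Coh.structureModule Y) 1) =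
        Module.finrank K (Coh.HH Y ((Scheme.Modules.pullback g).obj (unitMod X)) 1) :=
      (Groth.Agent.H5.Curve2.finrank_HH_iso K _ (pullbackUnitIso g) 1).symm
    exact h2.trans h1
  have hdegY : 2 * (Curv2.genus K Y : ℤ) + 1 ≤ Curv2.deg K Y M 1 := by
    rw [hgenus, deg_pb k K X Y g hpb L 1]
    exact hdeg
  have ht := generatedBy_pullSec g L hL s hs
  have hspan := span_pullSec k K X Y g hpb L s H1
  have hψ := isClosedImmersion_toPn K Y hdimY h0Y M hM hdegY
    (fun l => ProjUP.pullSec g L (s l)) ht hspan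
  exact isClosedImmersion_toPn_of_pullback k K X Y g hpb L hL s hs hM ht hψ

end BC

end Groth.Agent.H5.VA

namespace Groth.Agent.H5.VA

open Groth.Agent.LD Groth.Agent.LD.QC Groth.Agent.LD.CL Groth.Agent.H5.VAmple
  Groth.Agent.H5.SD Groth.Agent.H5.GG Groth.Agent.H5.Glue

section Final

variable (k : Type u) [Field k] (X : Scheme.{u}) [X.Over (Spec (CommRingCat.of k))]
  [IsProper (X ↘ Spec (CommRingCat.of k))]
  [GeometricallyIntegral (X ↘ Spec (CommRingCat.of k))]

/-- **S1611**: degree `≥ 2g + 1` implies very ample. -/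
theorem veryAmple_of_deg_ge (hdim : topologicalKrullDim X = 1)
    (h0 : Module.finrank k (Coh.HH X (Coh.structureModule X) 0) = 1)
    (L : X.Modules) (hL : PicF.IsInvertible L)
    (hdeg : 2 * (Curv2.genus k X : ℤ) + 1 ≤ Curv2.deg k X L 1) :
    ∃ (n : ℕ) (i : X ⟶ CohB1.ProjSpace n k), IsClosedImmersion i ∧
      i ≫ CohB1.ProjSpace.toSpec n k = X ↘ (Spec (CommRingCat.of k)) ∧
      Nonempty ((Scheme.Modules.pullback i).obj (Twist.twistProjSpace n k 1) ≅ L) := by
  classical
  haveI : IsIntegral X :=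
    GeometricallyIntegral.isIntegral_of_subsingleton (f := X ↘ Spec (CommRingCat.of k))
  haveI : Nonempty X := Groth.Agent.H5.Curve4.nonempty_of_dim_eq_one X hdim
  haveI : CompactSpace X := Curve.compactSpace k X
  haveI : L.IsQuasicoherent := qc_of_isInvertible _ hL
  have hLc : Coh.IsCoh L := Groth.Agent.H5.Curve2.isCoh_of_isInvertible hL
  have hgg : Curv2.IsGloballyGenerated L :=
    isGloballyGenerated_of_deg_ge k X hdim h0 L hL (by linarith)
  obtain ⟨n, hn⟩ := exists_finrank_hom_eq_succ_of_gg k X L hL hgg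
  haveI := finite_hom_unit k X L hLc
  let b : Module.Basis (Fin (n + 1)) k (unitMod X ⟶ L) :=
    (Module.finBasis k (unitMod X ⟶ L)).reindex (finCongr hn)
  let s : Fin (n + 1) → ProjUP.Γm L := fun l => sectionOfHom (b l)
  have hepi := epi_desc_basis k X L hLc.2 hgg b
  have hs : ProjUP.GeneratedBy L s := by
    apply generatedBy_of_forall_mem_genLocus
    intro x
    obtain ⟨l, hl⟩ := exists_mem_genLocus_of_epi L hL _ hepi x
    refine ⟨l, ?_⟩
    rw [Sigma.ι_desc] at hl
    change x ∈ CohB1.genLocus L (homOfSection L (sectionOfHom (b l)))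
    rw [homOfSection_sectionOfHom]
    exact hl
  have H1 : ∀ t : ProjUP.Γm L, ∃ c : Fin (n + 1) → k, t = ∑ l, tg k X (c l) • s l := by
    intro t
    letI := PF.moduleΓ k L
    refine ⟨fun l => b.repr (homOfSection L t) l, ?_⟩
    have h1 := congrArg (secEquiv k L) (b.sum_repr (homOfSection L t)).symm
    rw [map_sum] at h1
    have h2 : secEquiv k L (homOfSection L t) = t := sectionOfHom_homOfSection L t
    rw [h2] at h1
    refine h1.trans ?_
    apply Finset.sum_congr rfl
    intro l _
    rw [map_smul]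
    rfl
  -- base change to the algebraic closure
  let K := AlgebraicClosure k
  let gS := Spec.map (CommRingCat.ofHom (algebraMap k K))
  let Y := pullback (X ↘ Spec (CommRingCat.of k)) gS
  letI : Y.Over (Spec (CommRingCat.of K)) := ⟨pullback.snd (X ↘ Spec (CommRingCat.of k)) gS⟩
  have hpb : IsPullback (pullback.fst (X ↘ Spec (CommRingCat.of k)) gS)
      (Y ↘ Spec (CommRingCat.of K)) (X ↘ Spec (CommRingCat.of k)) gS :=
    IsPullback.of_hasPullback _ _
  have hφ := isClosedImmersion_toPn_of_bc k K X Y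
    (pullback.fst (X ↘ Spec (CommRingCat.of k)) gS) hpb hdim L hL hdeg s hs H1
  -- conclusion
  let j := toPn (X ↘ Spec (CommRingCat.of k)) L hL s hs
  let i : X ⟶ CohB1.ProjSpace n k := j ≫ (PN.OB.bridge n k).inv
  have hi : i ≫ CohB1.ProjSpace.toSpec n k = X ↘ Spec (CommRingCat.of k) := by
    change (j ≫ (PN.OB.bridge n k).inv) ≫ _ = _
    rw [Category.assoc, PN.OB.bridge_inv_toSpec]
    exact toPn_toBase (X ↘ Spec (CommRingCat.of k)) L hL s hs
  haveI : IsClosedImmersion j := hφ
  haveI : IsClosedImmersion i :=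
    inferInstanceAs (IsClosedImmersion (j ≫ (PN.OB.bridge n k).inv))
  refine ⟨n, i, inferInstance, hi, ?_⟩
  obtain ⟨e⟩ := nonempty_iso_toPn (X ↘ Spec (CommRingCat.of k)) L hL s hs
  refine ⟨?_ ≪≫ e.symm⟩
  exact ((Scheme.Modules.pullbackComp j (PN.OB.bridge n k).inv).app
      (Twist.twistProjSpace n k 1)).symm ≪≫
    (Scheme.Modules.pullback j).mapIso (PN.AmS.bridgeTwistIsoInv n k 1)

end Final

end Groth.Agent.H5.VA
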